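import Mathlib

set_option autoImplicit false
universe u v

namespace Groth.Agent.UnipJoinLib

variable {K : Type u} {V : Type v} [Field K] [AddCommGroup V] [Module K V]

noncomputable def W (H : Subgroup (V ≃ₗ[K] V)) : ℕ → Submodule K V
  | 0 => ⊤
  | j + 1 => ⨆ h : H, (W H j).map (((h : V ≃ₗ[K] V) : Module.End K V) - 1)

theorem W_le_ker (H : Subgroup (V ≃ₗ[K] V)) :
    ∀ (n : ℕ) (g : Module.End K V),
      (∀ f : Fin n → H, g * (List.ofFn fun i => (((f i : H) : V ≃ₗ[K] V) : Module.End K V) - 1).prod = 0) →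
      W H n ≤ LinearMap.ker g := by
  intro n
  induction n with
  | zero =>
    intro g hg x _
    have := hg Fin.elim0
    simp at this
    simp [this]
  | succ n ih =>
    intro g hg
    simp only [W, iSup_le_iff]
    intro h
    rw [Submodule.map_le_iff_le_comap]
    intro x hx
    have := ih (g * (((h : V ≃ₗ[K] V) : Module.End K V) - 1)) (fun f => by
      have := hg (Fin.cons h f)
      simpa [List.ofFn_succ, mul_assoc] using this) hx
    exact this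

theorem W_stable (H : Subgroup (V ≃ₗ[K] V)) (g : V ≃ₗ[K] V) (hg : ∀ h ∈ H, g * h * g⁻¹ ∈ H) :
    ∀ (j : ℕ), ∀ x ∈ W H j, g x ∈ W H j := by
  intro j
  induction j with
  | zero => intro x _; trivial
  | succ j ih =>
    intro x hx
    have : W H (j + 1) ≤ (W H (j + 1)).comap (g : V →ₗ[K] V) := by
      conv_lhs => rw [W]
      refine iSup_le fun h => ?_
      rw [Submodule.map_le_iff_le_comap]
      intro y hy
      show g ((((h : V ≃ₗ[K] V) : Module.End K V) - 1) y) ∈ W H (j + 1)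
      have e : g ((((h : V ≃ₗ[K] V) : Module.End K V) - 1) y) =
          (((⟨g * h * g⁻¹, hg h h.2⟩ : H) : V ≃ₗ[K] V) : Module.End K V) (g y) - g y := by
        simp [LinearEquiv.mul_apply]
      rw [e, W]
      exact Submodule.mem_iSup_of_mem ⟨g * h * g⁻¹, hg h h.2⟩ ⟨g y, ih y hy, by simp⟩
    exact this hx

theorem join_unipotent (H₁ H₂ : Subgroup (V ≃ₗ[K] V)) (hnorm : ∀ g ∈ H₂, ∀ h ∈ H₁, g * h * g⁻¹ ∈ H₁)
    (h₁ : ∃ n : ℕ, ∀ f : Fin n → ↥H₁,
      (List.ofFn fun i => (((f i : ↥H₁) : V ≃ₗ[K] V) : Module.End K V) - 1).prod = 0)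
    (h₂ : ∃ n : ℕ, ∀ f : Fin n → ↥H₂,
      (List.ofFn fun i => (((f i : ↥H₂) : V ≃ₗ[K] V) : Module.End K V) - 1).prod = 0) :
    ∃ n : ℕ, ∀ f : Fin n → ↥(H₁ ⊔ H₂),
      (List.ofFn fun i => (((f i : ↥(H₁ ⊔ H₂)) : V ≃ₗ[K] V) : Module.End K V) - 1).prod = 0 := by
  obtain ⟨n₁, h₁⟩ := h₁
  obtain ⟨n₂, h₂⟩ := h₂
  have hbot : W H₁ n₁ = ⊥ := by
    have := W_le_ker H₁ n₁ 1 (fun f => by simpa using h₁ f)
    rw [eq_bot_iff]; intro x hx; simpa using this hx
  have hn1 : ∀ g ∈ H₁, ∀ h ∈ H₁, g * h * g⁻¹ ∈ H₁ := fun g hg h hh =>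
    H₁.mul_mem (H₁.mul_mem hg hh) (H₁.inv_mem hg)
  have hst : ∀ x ∈ H₁ ⊔ H₂, ∀ (j : ℕ), (∀ y ∈ W H₁ j, x y ∈ W H₁ j) ∧
      ∃ g ∈ H₂, ∀ y ∈ W H₁ j, x y - g y ∈ W H₁ (j + 1) := by
    intro x hx
    rw [Subgroup.sup_eq_closure] at hx
    induction hx using Subgroup.closure_induction'' with
    | mem x hx =>
      intro j
      rcases hx with hx | hx
      · refine ⟨W_stable H₁ x (hn1 x hx) j, 1, H₂.one_mem, fun y hy => ?_⟩
        rw [W]
        exact Submodule.mem_iSup_of_mem ⟨x, hx⟩ ⟨y, hy, by simp⟩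
      · exact ⟨W_stable H₁ x (hnorm x hx) j, x, hx, fun y _ => by simp⟩
    | inv_mem x hx =>
      intro j
      rcases hx with hx | hx
      · refine ⟨W_stable H₁ x⁻¹ (hn1 _ (H₁.inv_mem hx)) j, 1, H₂.one_mem, fun y hy => ?_⟩
        rw [W]
        exact Submodule.mem_iSup_of_mem ⟨x⁻¹, H₁.inv_mem hx⟩ ⟨y, hy, by simp⟩
      · exact ⟨W_stable H₁ x⁻¹ (hnorm _ (H₂.inv_mem hx)) j, x⁻¹, H₂.inv_mem hx, fun y _ => by simp⟩
    | one => exact fun j => ⟨fun y hy => hy, 1, H₂.one_mem, fun y _ => by simp⟩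
    | mul x y _ _ ihx ihy =>
      intro j
      obtain ⟨hxs, g, hg, hxg⟩ := ihx j
      obtain ⟨hys, g', hg', hyg⟩ := ihy j
      refine ⟨fun z hz => hxs _ (hys z hz), g * g', H₂.mul_mem hg hg', fun z hz => ?_⟩
      have e : (x * y) z - (g * g') z = x (y z - g' z) + (x (g' z) - g (g' z)) := by
        simp [LinearEquiv.mul_apply, map_sub]
      rw [e]
      exact (W H₁ (j + 1)).add_mem ((ihx (j + 1)).1 _ (hyg z hz))
        (hxg _ (W_stable H₁ g' (hnorm g' hg') j z hz))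
  have hblock : ∀ (n : ℕ) (f : Fin n → ↥(H₁ ⊔ H₂)) (j : ℕ), ∃ g : Fin n → H₂, ∀ y ∈ W H₁ j,
      (List.ofFn fun i => (((f i : ↥(H₁ ⊔ H₂)) : V ≃ₗ[K] V) : Module.End K V) - 1).prod y ∈ W H₁ j ∧
      (List.ofFn fun i => (((f i : ↥(H₁ ⊔ H₂)) : V ≃ₗ[K] V) : Module.End K V) - 1).prod y -
        (List.ofFn fun i => (((g i : H₂) : V ≃ₗ[K] V) : Module.End K V) - 1).prod y ∈ W H₁ (j + 1) := by
    intro n
    induction n with
    | zero => exact fun f j => ⟨Fin.elim0, fun y hy => by simpa using hy⟩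
    | succ n ih =>
      intro f j
      obtain ⟨g, hg⟩ := ih (fun i => f i.succ) j
      obtain ⟨hs, g₀, hg₀, hfg⟩ := hst _ (f 0).2 j
      refine ⟨Fin.cons ⟨g₀, hg₀⟩ g, fun y hy => ?_⟩
      obtain ⟨hm, hd⟩ := hg y hy
      simp only [List.ofFn_succ, List.prod_cons, Fin.cons_zero, Fin.cons_succ, Module.End.mul_apply,
        LinearMap.sub_apply, Module.End.one_apply, LinearEquiv.coe_coe]
      refine ⟨(W H₁ j).sub_mem (hs _ hm) hm, ?_⟩
      set a := (List.ofFn fun i : Fin n => (((f i.succ : ↥(H₁ ⊔ H₂)) : V ≃ₗ[K] V) : Module.End K V) - 1).prod y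
      set b := (List.ofFn fun i : Fin n => (((g i : H₂) : V ≃ₗ[K] V) : Module.End K V) - 1).prod y
      have e : ((f 0 : V ≃ₗ[K] V)) a - a - (g₀ b - b) =
          ((f 0 : V ≃ₗ[K] V) a - g₀ a) + g₀ (a - b) - (a - b) := by rw [map_sub]; abel
      rw [e]
      exact (W H₁ (j + 1)).sub_mem ((W H₁ (j + 1)).add_mem (hfg a hm)
        (W_stable H₁ g₀ (hnorm g₀ hg₀) (j + 1) _ hd)) hd
  have hmany : ∀ (m : ℕ) (f : Fin (m * n₂) → ↥(H₁ ⊔ H₂)) (y : V),
      (List.ofFn fun i => (((f i : ↥(H₁ ⊔ H₂)) : V ≃ₗ[K] V) : Module.End K V) - 1).prod y ∈ W H₁ m := by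
    intro m
    induction m with
    | zero => intro f y; trivial
    | succ m ih =>
      intro f y
      have e : (m + 1) * n₂ = n₂ + m * n₂ := by ring
      rw [List.ofFn_congr e, List.ofFn_add, List.prod_append, Module.End.mul_apply]
      obtain ⟨g, hg⟩ := hblock n₂ (fun i => f ((Fin.castAdd (m * n₂) i).cast e.symm)) m
      have := (hg _ (ih (fun i => f ((Fin.natAdd n₂ i).cast e.symm)) y)).2
      rw [h₂ g, LinearMap.zero_apply, sub_zero] at this
      exact this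
  refine ⟨n₁ * n₂, fun f => LinearMap.ext fun y => ?_⟩
  have := hmany n₁ f y
  rw [hbot] at this
  simpa using this

end Groth.Agent.UnipJoinLib
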